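import Mathlib

/-!
# The counting lemma, abstract form (S3530, helper299)

`L` a group of order `u (u - 1) (u + 1) / 2` with TI Sylow `s`-subgroups of order `u`, a TI subgroup `C` of order
`(u + 1) / 2`, and the centralizers of elements of order `s` being `s`-groups.
-/

set_option autoImplicit false
set_option linter.unusedSectionVars false
set_option linter.style.haveILetI false

namespace Cfsg.Agent.H299.PslCount

open Subgroup

universe u v

variable {L : Type u} [Group L] [Finite L] {s : ℕ} [Fact s.Prime] {q : ℕ}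

/-- an element of `s`-power order that normalises a Sylow subgroup lies in it -/
theorem mem_of_normalizer {P Q : Sylow s L} {g : L} (hg : g ∈ (P : Subgroup L))
    (h : g ∈ normalizer ((Q : Subgroup L) : Set L)) : g ∈ (Q : Subgroup L) := by
  have h1 : (P : Subgroup L) ⊓ normalizer ((Q : Subgroup L) : Set L) = (P : Subgroup L) ⊓ (Q : Subgroup L) :=
    P.2.inf_normalizer_sylow Q
  have h2 : g ∈ (P : Subgroup L) ⊓ normalizer ((Q : Subgroup L) : Set L) := ⟨hg, h⟩
  rw [h1] at h2
  exact h2.2

/-- the number of Sylow subgroups is `1` modulo the order -/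
theorem card_sylow_mod (hTI : ∀ P Q : Sylow s L, ∀ x : L, x ≠ 1 → x ∈ (P : Subgroup L) → x ∈ (Q : Subgroup L) → P = Q)
    (P : Sylow s L) : ∃ k, Nat.card (Sylow s L) = 1 + k * Nat.card (P : Subgroup L) := by
  classical
  haveI : Fintype (Sylow s L) := Fintype.ofFinite _
  -- `P` acts freely on the other Sylow subgroups
  let X := {Q : Sylow s L // Q ≠ P}
  have hP : ∀ g : L, g ∈ (P : Subgroup L) → g • P = P := fun g hg =>
    Sylow.smul_eq_iff_mem_normalizer.2 (le_normalizer hg)
  letI : MulAction (P : Subgroup L) X :=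
    { smul := fun g Q => ⟨(g : L) • Q.1, fun h => Q.2 (by
        have h1 : (g : L)⁻¹ • ((g : L) • Q.1) = (g : L)⁻¹ • P := by rw [h]
        rwa [inv_smul_smul, hP _ (inv_mem g.2)] at h1)⟩
      one_smul := fun Q => Subtype.ext (one_smul L Q.1)
      mul_smul := fun g h Q => Subtype.ext (mul_smul (g : L) (h : L) Q.1) }
  have hfree : ∀ Q : X, MulAction.stabilizer (P : Subgroup L) Q = ⊥ := by
    intro Q
    rw [eq_bot_iff]
    intro g hg
    rw [MulAction.mem_stabilizer_iff] at hg
    have h1 : (g : L) • Q.1 = Q.1 := congrArg Subtype.val hg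
    have h2 : (g : L) ∈ (Q.1 : Subgroup L) := mem_of_normalizer (P := P) g.2 (Sylow.smul_eq_iff_mem_normalizer.1 h1)
    rw [mem_bot]
    by_contra h3
    exact Q.2 (hTI Q.1 P g (fun h4 => h3 (Subtype.ext h4)) h2 g.2)
  have h1 : Nat.card X = Nat.card (MulAction.orbitRel.Quotient (P : Subgroup L) X) * Nat.card (P : Subgroup L) := by
    have e := MulAction.selfEquivSigmaOrbitsQuotientStabilizer (P : Subgroup L) X
    have e2 : (Σ ω : MulAction.orbitRel.Quotient (P : Subgroup L) X,
        (P : Subgroup L) ⧸ MulAction.stabilizer (P : Subgroup L) ω.out) ≃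
        (Σ _ : MulAction.orbitRel.Quotient (P : Subgroup L) X, (P : Subgroup L)) :=
      Equiv.sigmaCongrRight fun ω => by
        rw [hfree]
        exact QuotientGroup.quotientBot.toEquiv
    rw [Nat.card_congr (e.trans (e2.trans (Equiv.sigmaEquivProd _ _))), Nat.card_prod]
  refine ⟨Nat.card (MulAction.orbitRel.Quotient (P : Subgroup L) X), ?_⟩
  rw [← h1]
  have h2 : Fintype.card X = Fintype.card (Sylow s L) - 1 := by
    simp only [X]
    rw [Fintype.card_subtype_compl, Fintype.card_subtype_eq]
  have h3 : 0 < Fintype.card (Sylow s L) := Fintype.card_pos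
  rw [Nat.card_eq_fintype_card, Nat.card_eq_fintype_card (α := X)]
  omega

/-- at most two Sylow subgroups are normalised by an element outside all of them -/
theorem three_fixed (hTI : ∀ P Q : Sylow s L, ∀ x : L, x ≠ 1 → x ∈ (P : Subgroup L) → x ∈ (Q : Subgroup L) → P = Q)
    (hn : ∀ P : Sylow s L, Nat.card (Sylow s L) = 1 + Nat.card (P : Subgroup L))
    (hc : ∀ x y : L, x ≠ 1 → IsPGroup s (zpowers x) → y * x = x * y → IsPGroup s (zpowers y))
    {g : L} (hg : g ≠ 1) {P Q R : Sylow s L} (hPQ : P ≠ Q) (hPR : P ≠ R) (hQR : Q ≠ R)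
    (h1 : g ∈ normalizer ((P : Subgroup L) : Set L)) (h2 : g ∈ normalizer ((Q : Subgroup L) : Set L))
    (h3 : g ∈ normalizer ((R : Subgroup L) : Set L)) : False := by
  classical
  haveI : Fintype (Sylow s L) := Fintype.ofFinite _
  haveI : Fintype ↥(P : Subgroup L) := Fintype.ofFinite _
  have hfree : ∀ a : L, a ∈ (P : Subgroup L) → a • Q = Q → a = 1 := by
    intro a ha haQ
    by_contra ha1
    exact hPQ (hTI P Q a ha1 ha (mem_of_normalizer (P := P) ha (Sylow.smul_eq_iff_mem_normalizer.1 haQ)))
  -- `P` is transitive on the other Sylow subgroups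
  have htr : ∃ y ∈ (P : Subgroup L), y • Q = R := by
    by_contra hno
    push Not at hno
    let f : ↥(P : Subgroup L) → Sylow s L := fun y => (y : L) • Q
    have hf : Function.Injective f := by
      intro y z hyz
      have h4 : ((z⁻¹ * y : (P : Subgroup L)) : L) • Q = Q := by
        show ((z : L)⁻¹ * (y : L)) • Q = Q
        have h5 : (y : L) • Q = (z : L) • Q := hyz
        rw [mul_smul, h5, inv_smul_smul]
      have h6 := hfree _ (z⁻¹ * y).2 h4
      have h7 : z⁻¹ * y = 1 := Subtype.ext h6
      exact (inv_mul_eq_one.1 h7).symm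
    have h4 : (Finset.univ.image f) ⊆ (Finset.univ.erase P).erase R := by
      intro T hT
      rw [Finset.mem_image] at hT
      obtain ⟨y, -, rfl⟩ := hT
      rw [Finset.mem_erase, Finset.mem_erase]
      refine ⟨hno y y.2, ?_, Finset.mem_univ _⟩
      intro h5
      apply hPQ
      have h6 : (y : L)⁻¹ • ((y : L) • Q) = (y : L)⁻¹ • P := by rw [show (y : L) • Q = P from h5]
      rw [inv_smul_smul] at h6
      rw [h6]
      exact (Sylow.smul_eq_iff_mem_normalizer.2 (le_normalizer (inv_mem y.2))).symm
    have h5 := Finset.card_le_card h4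
    rw [Finset.card_image_of_injective _ hf, Finset.card_univ, Finset.card_erase_of_mem
      (Finset.mem_erase.2 ⟨fun h => hPR h.symm, Finset.mem_univ _⟩), Finset.card_erase_of_mem (Finset.mem_univ _),
      Finset.card_univ] at h5
    have h6 := hn P
    rw [Nat.card_eq_fintype_card, Nat.card_eq_fintype_card] at h6
    have h7 : 0 < Fintype.card (P : Subgroup L) := Fintype.card_pos
    omega
  obtain ⟨y, hy, hyR⟩ := htr
  have hgP : g • P = P := Sylow.smul_eq_iff_mem_normalizer.2 h1
  have hgQ : g • Q = Q := Sylow.smul_eq_iff_mem_normalizer.2 h2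
  have hgR : g • R = R := Sylow.smul_eq_iff_mem_normalizer.2 h3
  have hy' : g * y * g⁻¹ ∈ (P : Subgroup L) := (mem_normalizer_iff.1 h1 y).1 hy
  have h4 : (y⁻¹ * (g * y * g⁻¹)) • Q = Q := by
    have h5 : g⁻¹ • Q = Q := by
      nth_rewrite 1 [← hgQ]
      rw [inv_smul_smul]
    rw [mul_smul, mul_smul, mul_smul, h5, hyR, hgR, ← hyR, inv_smul_smul]
  have h5 := hfree _ (mul_mem (inv_mem hy) hy') h4
  have h6 : g * y = y * g := by
    have h7 : g * y * g⁻¹ = y := (inv_mul_eq_one.1 h5).symm
    calc g * y = g * y * g⁻¹ * g := by group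
      _ = y * g := by rw [h7]
  have hy1 : y ≠ 1 := by
    rintro rfl
    rw [one_smul] at hyR
    exact hQR hyR
  have h7 : IsPGroup s (zpowers g) := by
    refine hc y g hy1 ?_ h6
    exact P.2.to_le (zpowers_le.2 hy)
  obtain ⟨T, hT⟩ := h7.exists_le_sylow
  have hgT : g ∈ (T : Subgroup L) := hT (mem_zpowers g)
  have h8 := hTI T P g hg hgT (mem_of_normalizer hgT h1)
  have h9 := hTI T Q g hg hgT (mem_of_normalizer hgT h2)
  exact hPQ (h8.symm.trans h9)

/-- exchanging the summations -/
theorem swap {I G M : Type*} [Fintype I] [Fintype G] [AddCommMonoid M] (R : I → G → Prop) [∀ i g, Decidable (R i g)]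
    (φ : G → M) :
    ∑ g, (Finset.univ.filter fun i => R i g).card • φ g = ∑ i, ∑ g ∈ Finset.univ.filter (R i), φ g := by
  have h1 : ∀ g, (Finset.univ.filter fun i => R i g).card • φ g = ∑ i, if R i g then φ g else 0 := by
    intro g
    rw [← Finset.sum_filter, Finset.sum_const]
  simp_rw [h1, Finset.sum_filter]
  exact Finset.sum_comm

theorem main [Fintype L] [Fintype (Sylow s L)] {k : ℕ} (hk : 2 ≤ k) (hq : q + 1 = 2 * k)
    (hcard : 2 * Nat.card L = q * (q - 1) * (q + 1))
    (hPq : ∀ P : Sylow s L, Nat.card (P : Subgroup L) = q)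
    (hTI : ∀ P Q : Sylow s L, ∀ x : L, x ≠ 1 → x ∈ (P : Subgroup L) → x ∈ (Q : Subgroup L) → P = Q)
    (hn : Nat.card (Sylow s L) = q + 1)
    (hc : ∀ x y : L, x ≠ 1 → IsPGroup s (zpowers x) → y * x = x * y → IsPGroup s (zpowers y))
    {C H : Subgroup L} (hC : Nat.card C = k) (hH : Nat.card H = q + 1)
    (hCTI : ∀ g, g ∉ H → ∀ x ∈ C, g⁻¹ * x * g ∈ C → x = 1)
    {A : Type v} [AddCommGroup A] (φ : L → A) [DecidablePred fun g : L => g ∈ C]
    [∀ P : Sylow s L, DecidablePred fun g : L => g ∈ (P : Subgroup L)]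
    [∀ P : Sylow s L, DecidablePred fun g : L => g ∈ normalizer ((P : Subgroup L) : Set L)]
    (h0 : ∑ g, φ g = 0)
    (h1 : ∀ P : Sylow s L, ∑ g ∈ Finset.univ.filter (fun g => g ∈ normalizer ((P : Subgroup L) : Set L)), φ g = 0)
    (h2 : ∀ P : Sylow s L, ∑ g ∈ Finset.univ.filter (fun g => g ∈ (P : Subgroup L)), φ g = 0)
    (h3 : ∀ c : L, ∑ g ∈ Finset.univ.filter (fun g => c⁻¹ * g * c ∈ C), φ g = 0) :
    (q * (q + 1) * (q + 1)) • φ 1 = 0 := by
  classical
  have hL : Nat.card L = (2 * k - 1) * (k - 1) * (2 * k) := by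
    have e1 : q = 2 * k - 1 := by omega
    have e2 : q - 1 = 2 * (k - 1) := by omega
    rw [hq, e2, e1] at hcard
    have : 2 * Nat.card L = 2 * ((2 * k - 1) * (k - 1) * (2 * k)) := by rw [hcard]; ring
    omega
  have hNP : ∀ P : Sylow s L, Nat.card (normalizer ((P : Subgroup L) : Set L)) = (2 * k - 1) * (k - 1) := by
    intro P
    have e1 : Nat.card (Sylow s L) = (normalizer ((P : Subgroup L) : Set L)).index := P.card_eq_index_normalizer
    have e2 := (normalizer ((P : Subgroup L) : Set L)).card_mul_index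
    rw [← e1, hn, hq, hL] at e2
    exact Nat.eq_of_mul_eq_mul_right (by omega) e2
  -- the three counting functions
  set a : L → ℕ := fun g => (Finset.univ.filter fun P : Sylow s L => g ∈ normalizer ((P : Subgroup L) : Set L)).card
    with ha
  set b : L → ℕ := fun g => (Finset.univ.filter fun P : Sylow s L => g ∈ (P : Subgroup L)).card with hb
  set d : L → ℕ := fun g => (Finset.univ.filter fun c : L => c⁻¹ * g * c ∈ C).card with hd
  have hcop : ∀ g : L, ∀ P : Sylow s L, g ∈ normalizer ((P : Subgroup L) : Set L) → ∀ c : L, c⁻¹ * g * c ∈ C →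
      g = 1 := by
    intro g P hg c hgc
    have e1 : orderOf g ∣ (2 * k - 1) * (k - 1) := by
      rw [← hNP P]
      exact Subgroup.orderOf_dvd_natCard _ hg
    have e2 : orderOf g ∣ k := by
      rw [← hC]
      have e3 : orderOf (c⁻¹ * g * c) = orderOf g := by
        have := orderOf_injective (MulAut.conj c⁻¹).toMonoidHom (MulAut.conj c⁻¹).injective g
        simpa using this
      rw [← e3]
      exact Subgroup.orderOf_dvd_natCard _ hgc
    have e4 : Nat.Coprime k ((2 * k - 1) * (k - 1)) := by
      obtain ⟨j, rfl⟩ := Nat.exists_eq_add_of_le hk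
      apply Nat.Coprime.mul_right
      · have : 2 * (2 + j) - 1 = (2 + j) * 1 + (1 + j) := by omega
        rw [this, Nat.coprime_mul_left_add_right]
        have : 2 + j = (1 + j) + 1 := by omega
        rw [this, Nat.coprime_self_add_left]
        exact Nat.coprime_one_left _
      · have : 2 + j = (2 + j - 1) + 1 := by omega
        nth_rewrite 1 [this]
        rw [Nat.coprime_self_add_left]
        exact Nat.coprime_one_left _
    have e5 := Nat.dvd_gcd e2 e1
    rw [Nat.Coprime] at e4
    rw [e4, Nat.dvd_one] at e5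
    exact orderOf_eq_one_iff.1 e5
  have hle : ∀ g : L, g ≠ 1 → (q + 1) * a g + (q + 1) * b g + 2 * d g ≤ 2 * (q + 1) := by
    intro g hg
    by_cases hP : ∃ P : Sylow s L, g ∈ (P : Subgroup L)
    · obtain ⟨P, hP⟩ := hP
      have e1 : b g ≤ 1 := by
        rw [hb]
        show (Finset.univ.filter fun P : Sylow s L => g ∈ (P : Subgroup L)).card ≤ 1
        rw [Finset.card_le_one]
        intro Q hQ R hR
        rw [Finset.mem_filter] at hQ hR
        exact hTI Q R g hg hQ.2 hR.2
      have e2 : a g ≤ 1 := by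
        rw [ha]
        show (Finset.univ.filter fun P : Sylow s L => g ∈ normalizer ((P : Subgroup L) : Set L)).card ≤ 1
        rw [Finset.card_le_one]
        intro Q hQ R hR
        rw [Finset.mem_filter] at hQ hR
        exact hTI Q R g hg (mem_of_normalizer hP hQ.2) (mem_of_normalizer hP hR.2)
      have e3 : d g = 0 := by
        rw [hd]
        show (Finset.univ.filter fun c : L => c⁻¹ * g * c ∈ C).card = 0
        rw [Finset.card_eq_zero, Finset.filter_eq_empty_iff]
        intro c _ hcc
        exact hg (hcop g P (le_normalizer hP) c hcc)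
      nlinarith
    · have e1 : b g = 0 := by
        rw [hb]
        show (Finset.univ.filter fun P : Sylow s L => g ∈ (P : Subgroup L)).card = 0
        rw [Finset.card_eq_zero, Finset.filter_eq_empty_iff]
        intro P _ hPg
        exact hP ⟨P, hPg⟩
      by_cases hT : ∃ c : L, c⁻¹ * g * c ∈ C
      · obtain ⟨c, hcg⟩ := hT
        have e2 : a g = 0 := by
          rw [ha]
          show (Finset.univ.filter fun P : Sylow s L => g ∈ normalizer ((P : Subgroup L) : Set L)).card = 0
          rw [Finset.card_eq_zero, Finset.filter_eq_empty_iff]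
          intro P _ hPg
          exact hg (hcop g P hPg c hcg)
        have e3 : d g ≤ q + 1 := by
          rw [hd]
          show (Finset.univ.filter fun c : L => c⁻¹ * g * c ∈ C).card ≤ q + 1
          rw [← hH, Nat.card_eq_fintype_card]
          rw [← Finset.card_univ]
          have e4 : (Finset.univ.filter fun c : L => c⁻¹ * g * c ∈ C) ⊆
              Finset.univ.image (fun h : H => c * (h : L)) := by
            intro c' hc'
            rw [Finset.mem_filter] at hc'
            rw [Finset.mem_image]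
            refine ⟨⟨c⁻¹ * c', ?_⟩, Finset.mem_univ _, by simp⟩
            by_contra hno
            have e5 := hCTI _ hno _ hcg (by
              have : (c⁻¹ * c')⁻¹ * (c⁻¹ * g * c) * (c⁻¹ * c') = c'⁻¹ * g * c' := by group
              rw [this]
              exact hc'.2)
            apply hg
            have e6 : g = c * (c⁻¹ * g * c) * c⁻¹ := by group
            rw [e6, e5]
            group
          exact (Finset.card_le_card e4).trans Finset.card_image_le
        rw [e1, e2]
        omega
      · have e2 : d g = 0 := by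
          rw [hd]
          show (Finset.univ.filter fun c : L => c⁻¹ * g * c ∈ C).card = 0
          rw [Finset.card_eq_zero, Finset.filter_eq_empty_iff]
          intro c _ hcc
          exact hT ⟨c, hcc⟩
        have e3 : a g ≤ 2 := by
          rw [ha]
          show (Finset.univ.filter fun P : Sylow s L => g ∈ normalizer ((P : Subgroup L) : Set L)).card ≤ 2
          by_contra hno
          push Not at hno
          obtain ⟨P, Q, R, hP1, hQ1, hR1, hPQ, hPR, hQR⟩ := Finset.two_lt_card_iff.1 hno
          rw [Finset.mem_filter] at hP1 hQ1 hR1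
          exact three_fixed hTI (fun P => by rw [hn, hPq, add_comm]) hc hg hPQ hPR hQR hP1.2 hQ1.2 hR1.2
        rw [e1, e2]
        nlinarith
  have hcC : ∀ c : L, (Finset.univ.filter fun g : L => c⁻¹ * g * c ∈ C).card = k := by
    intro c
    rw [← hC, Nat.card_eq_fintype_card, ← Finset.card_univ]
    refine Finset.card_bij' (fun g hg => (⟨c⁻¹ * g * c, (Finset.mem_filter.1 hg).2⟩ : C))
      (fun x _ => c * (x : L) * c⁻¹) ?_ ?_ ?_ ?_
    · intro g hg
      exact Finset.mem_univ _
    · intro x _
      rw [Finset.mem_filter]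
      refine ⟨Finset.mem_univ _, ?_⟩
      have : c⁻¹ * (c * (x : L) * c⁻¹) * c = x := by group
      rw [this]
      exact x.2
    · intro g hg
      show c * (c⁻¹ * g * c) * c⁻¹ = g
      group
    · intro x _
      apply Subtype.ext
      show c⁻¹ * (c * (x : L) * c⁻¹) * c = x
      group
  have hcS : ∀ K : Subgroup L, ∀ [DecidablePred fun g : L => g ∈ K],
      (Finset.univ.filter fun g : L => g ∈ K).card = Nat.card K := by
    intro K _
    rw [Nat.card_eq_fintype_card]
    exact (Fintype.card_subtype _).symm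
  have hone : a 1 = q + 1 ∧ b 1 = q + 1 ∧ d 1 = Nat.card L := by
    refine ⟨?_, ?_, ?_⟩
    · rw [ha]
      show (Finset.univ.filter fun P : Sylow s L => (1 : L) ∈ normalizer ((P : Subgroup L) : Set L)).card = q + 1
      rw [Finset.filter_true_of_mem (fun P _ => one_mem _), Finset.card_univ, ← Nat.card_eq_fintype_card, hn]
    · rw [hb]
      show (Finset.univ.filter fun P : Sylow s L => (1 : L) ∈ (P : Subgroup L)).card = q + 1
      rw [Finset.filter_true_of_mem (fun P _ => one_mem _), Finset.card_univ, ← Nat.card_eq_fintype_card, hn]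
    · rw [hd]
      show (Finset.univ.filter fun c : L => c⁻¹ * 1 * c ∈ C).card = Nat.card L
      rw [Finset.filter_true_of_mem (fun c _ => by
        have : c⁻¹ * 1 * c = 1 := by group
        rw [this]; exact one_mem _), Finset.card_univ, Nat.card_eq_fintype_card]
  -- the total count
  have hsum : ∑ g, ((q + 1) * a g + (q + 1) * b g + 2 * d g) =
      (q + 1) * (2 * k * ((2 * k - 1) * (k - 1))) + (q + 1) * (2 * k * q) + 2 * (Nat.card L * k) := by
    rw [Finset.sum_add_distrib, Finset.sum_add_distrib, ← Finset.mul_sum, ← Finset.mul_sum, ← Finset.mul_sum]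
    have s1 := swap (fun (P : Sylow s L) (g : L) => g ∈ normalizer ((P : Subgroup L) : Set L)) (fun _ => (1 : ℕ))
    have s2 := swap (fun (P : Sylow s L) (g : L) => g ∈ (P : Subgroup L)) (fun _ => (1 : ℕ))
    have s3 := swap (fun (c : L) (g : L) => c⁻¹ * g * c ∈ C) (fun _ => (1 : ℕ))
    simp only [smul_eq_mul, mul_one, Finset.sum_const] at s1 s2 s3
    have t1 : ∑ g, a g = 2 * k * ((2 * k - 1) * (k - 1)) := by
      rw [ha]
      refine s1.trans ?_
      rw [Finset.sum_congr rfl (fun P _ => (hcS _).trans (hNP P)), Finset.sum_const, Finset.card_univ,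
        ← Nat.card_eq_fintype_card, hn, hq, smul_eq_mul]
    have t2 : ∑ g, b g = 2 * k * q := by
      rw [hb]
      refine s2.trans ?_
      rw [Finset.sum_congr rfl (fun P _ => (hcS _).trans (hPq P)), Finset.sum_const, Finset.card_univ,
        ← Nat.card_eq_fintype_card, hn, hq, smul_eq_mul]
    have t3 : ∑ g, d g = Nat.card L * k := by
      rw [hd]
      refine s3.trans ?_
      rw [Finset.sum_congr rfl (fun c _ => hcC c), Finset.sum_const, Finset.card_univ,
        ← Nat.card_eq_fintype_card, smul_eq_mul]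
    rw [t1, t2, t3]
  set F : L → ℕ := fun g => (q + 1) * a g + (q + 1) * b g + 2 * d g with hF
  have hF1 : F 1 = 2 * (q + 1) + q * (q + 1) * (q + 1) := by
    show (q + 1) * a 1 + (q + 1) * b 1 + 2 * d 1 = _
    rw [hone.1, hone.2.1, hone.2.2, hcard]
    obtain ⟨r, rfl⟩ : ∃ r, q = r + 1 := ⟨q - 1, by omega⟩
    rw [Nat.add_sub_cancel]
    ring
  have hpt : ∀ g ∈ Finset.univ.erase (1 : L), F g = 2 * (q + 1) := by
    rw [← Finset.sum_eq_sum_iff_of_le (fun g hg => hle g (Finset.ne_of_mem_erase hg))]
    change (∑ g ∈ Finset.univ.erase (1 : L), F g) = ∑ g ∈ Finset.univ.erase (1 : L), 2 * (q + 1)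
    have e1 : ∑ g ∈ Finset.univ.erase (1 : L), F g + F 1 = ∑ g, F g := Finset.sum_erase_add _ _ (Finset.mem_univ _)
    rw [Finset.sum_const, Finset.card_erase_of_mem (Finset.mem_univ _), Finset.card_univ, ← Nat.card_eq_fintype_card,
      smul_eq_mul]
    rw [hsum, hF1] at e1
    have e2 : 0 < Nat.card L := Nat.card_pos
    obtain ⟨N, hN⟩ : ∃ N, Nat.card L = N + 1 := ⟨Nat.card L - 1, by omega⟩
    rw [hN, Nat.add_sub_cancel]
    rw [hN] at e1 hL
    obtain ⟨j, rfl⟩ := Nat.exists_eq_add_of_le hk
    have e3 : q = 2 * j + 3 := by omega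
    have e4 : 2 * (2 + j) - 1 = 2 * j + 3 := by omega
    have e5 : 2 + j - 1 = j + 1 := by omega
    rw [e4, e5] at hL e1
    rw [e3] at e1 ⊢
    have e6 : N = (2 * j + 3) * (j + 1) * (2 * (2 + j)) - 1 := by omega
    zify at e1 hL ⊢
    have e7 : (N : ℤ) = (2 * j + 3) * (j + 1) * (2 * (2 + j)) - 1 := by linarith
    rw [e7] at e1 ⊢
    linear_combination e1
  have htot : ∑ g, F g • φ g = 0 := by
    have s1 := swap (fun (P : Sylow s L) (g : L) => g ∈ normalizer ((P : Subgroup L) : Set L)) φ
    have s2 := swap (fun (P : Sylow s L) (g : L) => g ∈ (P : Subgroup L)) φ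
    have s3 := swap (fun (c : L) (g : L) => c⁻¹ * g * c ∈ C) φ
    have t1 : ∑ g, a g • φ g = 0 := by
      rw [ha]
      exact s1.trans (Finset.sum_eq_zero fun P _ => h1 P)
    have t2 : ∑ g, b g • φ g = 0 := by
      rw [hb]
      exact s2.trans (Finset.sum_eq_zero fun P _ => h2 P)
    have t3 : ∑ g, d g • φ g = 0 := by
      rw [hd]
      exact s3.trans (Finset.sum_eq_zero fun c _ => h3 c)
    have e1 : ∀ g, F g • φ g = (q + 1) • (a g • φ g) + (q + 1) • (b g • φ g) + 2 • (d g • φ g) := by
      intro g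
      show ((q + 1) * a g + (q + 1) * b g + 2 * d g) • φ g = _
      rw [add_smul, add_smul, mul_smul, mul_smul, mul_smul]
    rw [Finset.sum_congr rfl (fun g _ => e1 g), Finset.sum_add_distrib, Finset.sum_add_distrib, ← Finset.smul_sum,
      ← Finset.smul_sum, ← Finset.smul_sum, t1, t2, t3, smul_zero, smul_zero, add_zero, add_zero]
  have e1 : ∑ g ∈ Finset.univ.erase (1 : L), F g • φ g + F 1 • φ 1 = 0 := by
    rw [← htot]
    exact Finset.sum_erase_add _ _ (Finset.mem_univ _)
  have e2 : ∑ g ∈ Finset.univ.erase (1 : L), F g • φ g = (2 * (q + 1)) • ∑ g ∈ Finset.univ.erase (1 : L), φ g := by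
    rw [Finset.smul_sum]
    exact Finset.sum_congr rfl fun g hg => by rw [hpt g hg]
  have e3 : ∑ g ∈ Finset.univ.erase (1 : L), φ g + φ 1 = 0 := by
    rw [← h0]
    exact Finset.sum_erase_add _ _ (Finset.mem_univ _)
  rw [e2, hF1, add_smul, ← add_assoc, ← smul_add, e3, smul_zero, zero_add] at e1
  exact e1

end Cfsg.Agent.H299.PslCount
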