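import Cfsg.Agent.H299.S3530.Abs
import Cfsg.Agent.ClassicalGeometry.PSL2ElemOrder
import Cfsg.Agent.TwoFusion.SLTwoFacts

/-!
# The counting lemma for `PSL(2, q)`, `q` odd (S3530, helper299)
-/

set_option autoImplicit false
set_option linter.unusedSectionVars false
set_option linter.style.haveILetI false

namespace Cfsg.Agent.H299.PslCount

open Subgroup
open Cfsg.Agent.ClassicalGeometry Cfsg.Agent.ClassicalGeometry.PSLTorus
open scoped MatrixGroups

universe u v

variable {F : Type} [Field F] [Fintype F] {s f : ℕ} [Fact s.Prime]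

local notation "𝔾" => Matrix.ProjectiveSpecialLinearGroup (Fin 2) F

/-- elements of order divisible by the characteristic have prime order -/
theorem orderOf_eq [CharP F s] (hs : s ≠ 2) (g : 𝔾) (hg : s ∣ orderOf g) : orderOf g = s := by
  have hp : s.Prime := Fact.out
  have hodd : Odd s := hp.odd_of_ne_two hs
  have h2 : (2 : F) ≠ 0 := by
    intro h
    have h3 : ((2 : ℕ) : F) = 0 := by exact_mod_cast h
    exact hs ((Nat.prime_dvd_prime_iff_eq hp Nat.prime_two).1 ((CharP.cast_eq_zero_iff F s 2).1 h3))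
  obtain ⟨n, -, hn⟩ := FiniteField.card F s
  have hsq : s ∣ Fintype.card F := by
    rw [hn]
    exact dvd_pow_self s n.pos.ne'
  have h1 : 0 < Fintype.card F := Fintype.card_pos
  obtain ⟨A, rfl⟩ := pr_surjective F g
  rcases Cfsg.Agent.ClassicalGeometry.SL2Order.pow_cases rfl s A with h | h | h
  · exfalso
    have h3 : orderOf (pr F A) ∣ Fintype.card F - 1 := orderOf_dvd_of_pow_eq_one (by rw [← map_pow, h, map_one])
    have h4 := (Nat.dvd_sub hsq (hg.trans h3))
    have h5 : Fintype.card F - (Fintype.card F - 1) = 1 := by omega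
    rw [h5] at h4
    exact hp.one_lt.ne' (Nat.dvd_one.1 h4)
  · exfalso
    have h3 : orderOf (pr F A) ∣ Fintype.card F + 1 := orderOf_dvd_of_pow_eq_one (by rw [← map_pow, h, map_one])
    have h4 := (Nat.dvd_sub (hg.trans h3) hsq)
    rw [Nat.add_sub_cancel_left] at h4
    exact hp.one_lt.ne' (Nat.dvd_one.1 h4)
  · have h3 : A ^ s * A ^ s = 1 := by rw [← pow_add, ← two_mul, h]
    have h4 : orderOf (pr F A) ∣ s := by
      apply orderOf_dvd_of_pow_eq_one
      rw [← map_pow, pr_eq_one_iff]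
      exact PSL2ElemOrder.eq_one_or_of_sq h2 _ h3
    exact Nat.dvd_antisymm h4 hg

/-- centralizers of unipotent elements are `s`-groups -/
theorem cent_pgroup [CharP F s] (hs : s ≠ 2) (x y : 𝔾) (hx : x ≠ 1) (hxs : IsPGroup s (zpowers x))
    (hxy : y * x = x * y) : IsPGroup s (zpowers y) := by
  have hp : s.Prime := Fact.out
  -- the order of `x` is `s`
  have h1 : s ∣ orderOf x := by
    obtain ⟨n, hn⟩ := IsPGroup.iff_card.1 hxs
    rw [Nat.card_zpowers] at hn
    have hn0 : n ≠ 0 := by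
      rintro rfl
      rw [pow_zero] at hn
      exact hx (orderOf_eq_one_iff.1 hn)
    rw [hn]
    exact dvd_pow_self s hn0
  have h2 : orderOf x = s := orderOf_eq hs x h1
  -- the order of `y` is `1` or `s`
  by_cases h3 : s ∣ orderOf y
  · refine IsPGroup.of_card (n := 1) ?_
    rw [Nat.card_zpowers, orderOf_eq hs y h3, pow_one]
  · have h4 : Nat.Coprime (orderOf x) (orderOf y) := by
      rw [h2]
      exact (Nat.Prime.coprime_iff_not_dvd hp).2 h3
    have h5 : orderOf (x * y) = orderOf x * orderOf y :=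
      (show Commute x y from hxy.symm).orderOf_mul_eq_mul_orderOf_of_coprime h4
    have h6 := orderOf_eq hs (x * y) (by rw [h5, h2]; exact Dvd.intro _ rfl)
    rw [h5, h2] at h6
    have h7 : orderOf y = 1 := by
      have := hp.pos
      exact Nat.eq_of_mul_eq_mul_left this (by rw [h6, mul_one])
    rw [orderOf_eq_one_iff.1 h7, zpowers_one_eq_bot]
    exact IsPGroup.of_bot

/-- the order of the Sylow subgroups -/
theorem card_sylow [CharP F s] (hs : s ≠ 2) (P : Sylow s 𝔾) : Nat.card (P : Subgroup 𝔾) = Fintype.card F := by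
  have hp : s.Prime := Fact.out
  obtain ⟨n, -, hn⟩ := FiniteField.card F s
  have hodd : Odd s := hp.odd_of_ne_two hs
  have hoF : Odd (Fintype.card F) := by rw [hn]; exact hodd.pow
  have h1 := PSL2Basic.card_PSL2_odd (F := F) hoF
  have h2 := (P : Subgroup 𝔾).card_mul_index
  have h3 : ¬ s ∣ (P : Subgroup 𝔾).index := P.not_dvd_index' (Subgroup.index_ne_zero_of_finite)
  obtain ⟨m, hm⟩ := IsPGroup.iff_card.1 P.2
  have hsq : s ∣ Fintype.card F := by
    rw [hn]
    exact dvd_pow_self s n.pos.ne'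
  have h4 : ¬ s ∣ (Fintype.card F ^ 2 - 1) := by
    intro h
    have h5 : s ∣ Fintype.card F ^ 2 := hsq.trans (dvd_pow_self _ (by norm_num))
    have h6 := Nat.dvd_sub h5 h
    have h7 : 0 < Fintype.card F ^ 2 := pow_pos Fintype.card_pos 2
    have h8 : Fintype.card F ^ 2 - (Fintype.card F ^ 2 - 1) = 1 := by omega
    rw [h8] at h6
    exact hp.one_lt.ne' (Nat.dvd_one.1 h6)
  have h9 : Nat.Coprime s (Fintype.card F ^ 2 - 1) := (Nat.Prime.coprime_iff_not_dvd hp).2 h4
  have h10 : Nat.Coprime s ((P : Subgroup 𝔾).index * 2) := by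
    refine Nat.Coprime.mul_right ((Nat.Prime.coprime_iff_not_dvd hp).2 h3) ?_
    rw [Nat.coprime_two_right]
    exact hodd
  rw [← h2, mul_assoc] at h1
  apply Nat.dvd_antisymm
  · have h11 : Nat.card (P : Subgroup 𝔾) ∣ Fintype.card F * (Fintype.card F ^ 2 - 1) := Dvd.intro _ h1
    refine Nat.Coprime.dvd_of_dvd_mul_right ?_ h11
    rw [hm]
    exact h9.pow_left m
  · have h11 : Fintype.card F ∣ Nat.card (P : Subgroup 𝔾) * ((P : Subgroup 𝔾).index * 2) := Dvd.intro _ h1.symm
    refine Nat.Coprime.dvd_of_dvd_mul_right ?_ h11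
    rw [hn]
    exact h10.pow_left n

/-- the number of Sylow subgroups -/
theorem number_sylow [CharP F s] (hs : s ≠ 2) (h4 : 3 < Fintype.card F) : Nat.card (Sylow s 𝔾) = Fintype.card F + 1 := by
  have hp : s.Prime := Fact.out
  obtain ⟨n, -, hn⟩ := FiniteField.card F s
  have hodd : Odd s := hp.odd_of_ne_two hs
  have hoF : Odd (Fintype.card F) := by rw [hn]; exact hodd.pow
  have h1 := PSL2Basic.card_PSL2_odd (F := F) hoF
  haveI := Cfsg.Agent.TwoFusion.SLTwoFacts.isSimpleGroup_psl (F := F) h4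
  obtain ⟨P⟩ : Nonempty (Sylow s 𝔾) := inferInstance
  obtain ⟨k, hk⟩ := card_sylow_mod (fun P Q x => PSL2ElemOrder.sylow_eq_of_mem s P Q x) P
  rw [card_sylow hs] at hk
  have h5 := (normalizer ((P : Subgroup 𝔾) : Set 𝔾)).card_mul_index
  have h6 : Nat.card (Sylow s 𝔾) = (normalizer ((P : Subgroup 𝔾) : Set 𝔾)).index := P.card_eq_index_normalizer
  have h7 : Nat.card (P : Subgroup 𝔾) ∣ Nat.card (normalizer ((P : Subgroup 𝔾) : Set 𝔾)) :=
    Subgroup.card_dvd_of_le le_normalizer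
  rw [card_sylow hs] at h7
  obtain ⟨m, hm⟩ := h7
  rw [hm, ← h6, hk] at h5
  set q := Fintype.card F with hq
  have hk0 : k ≠ 0 := by
    rintro rfl
    rw [zero_mul, add_zero, h6, index_eq_one, normalizer_eq_top_iff] at hk
    rcases hk.eq_bot_or_eq_top with h | h
    · have := card_sylow hs P
      rw [h, Subgroup.card_bot] at this
      omega
    · have h8 : Nat.card 𝔾 = q := by
        rw [hq, ← card_sylow hs P, h, Subgroup.card_top]
      rw [h8] at h1
      have h9 : 2 = q ^ 2 - 1 := Nat.eq_of_mul_eq_mul_left (by omega : 0 < q) h1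
      have h10 : 9 < q ^ 2 := by nlinarith
      omega
  have h8 : m * (1 + k * q) * 2 = q ^ 2 - 1 := by
    have h9 : q * (m * (1 + k * q) * 2) = q * (q ^ 2 - 1) := by
      rw [← h1, ← h5]; ring
    exact Nat.eq_of_mul_eq_mul_left (by omega : 0 < q) h9
  have h9 : m * (1 + k * q) * 2 + 1 = q * q := by
    have : 0 < q ^ 2 := by positivity
    rw [h8, ← pow_two]
    omega
  have h10 : q ∣ 2 * m + 1 := by
    have h11 : q ∣ (2 * m + 1) + q * (2 * m * k) := ⟨q, by rw [← h9]; ring⟩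
    exact (Nat.dvd_add_left (Dvd.intro _ rfl)).1 h11
  have h11 : q ≤ 2 * m + 1 := Nat.le_of_dvd (by omega) h10
  have h12 : k = 1 := by
    by_contra hk1
    have hk2 : 2 ≤ k := by omega
    nlinarith
  rw [hk, h12]
  ring

/-- elements of odd order dividing `q + 1` lie in the non-split torus -/
theorem mem_torus [CharP F s] (hs : s ≠ 2) {k : ℕ} (hk : Fintype.card F + 1 = 2 * k) {C H : Subgroup 𝔾} (hCH : C ≤ H)
    (hi : C.relIndex H = 2) (hcomm : IsCyclic C) (hC : Nat.card C = k)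
    (hTI : ∀ g, g ∉ H → ∀ x ∈ C, g⁻¹ * x * g ∈ C → x = 1) {x : 𝔾} (hx1 : x ≠ 1) (hx : orderOf x ∣ Fintype.card F + 1)
    (hodd : Odd (orderOf x)) : ∃ c : 𝔾, c⁻¹ * x * c ∈ C := by
  have hp : s.Prime := Fact.out
  have hx0 : orderOf x ≠ 1 := fun h => hx1 (orderOf_eq_one_iff.1 h)
  obtain ⟨r, hr, hrx⟩ := Nat.exists_prime_and_dvd hx0
  haveI : Fact r.Prime := ⟨hr⟩
  have hr2 : r ≠ 2 := by
    rintro rfl
    exact (Nat.not_even_iff_odd.2 hodd) (even_iff_two_dvd.2 hrx)
  set x' := x ^ (orderOf x / r) with hx'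
  have hx'o : orderOf x' = r := orderOf_pow_orderOf_div (orderOf_pos x).ne' hrx
  -- the Sylow `r`-subgroup of `C` is a Sylow subgroup of `G`
  have hq := Fintype.card_pos (α := F)
  have hr2k : r ∣ k := by
    have h1 : r ∣ 2 * k := by rw [← hk]; exact hrx.trans hx
    exact ((Nat.Prime.dvd_mul hr).1 h1).resolve_left fun h => hr2 ((Nat.prime_dvd_prime_iff_eq hr Nat.prime_two).1 h)
  have hoF : Odd (Fintype.card F) := by
    rw [Nat.odd_iff]; omega
  have h1 := PSL2Basic.card_PSL2_odd (F := F) hoF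
  have hidx : C.index = Fintype.card F * (Fintype.card F - 1) := by
    have h2 := C.card_mul_index
    rw [hC] at h2
    have h3 : Fintype.card F ^ 2 - 1 = (Fintype.card F - 1) * (2 * k) := by
      rw [← hk]
      obtain ⟨q, hq'⟩ : ∃ q, Fintype.card F = q + 1 := ⟨Fintype.card F - 1, by omega⟩
      rw [hq', Nat.add_sub_cancel]
      have : (q + 1) ^ 2 = q * (q + 1 + 1) + 1 := by ring
      rw [this, Nat.add_sub_cancel]
    rw [h3, ← h2] at h1
    have hk0 : 0 < 2 * k := by omega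
    have h4 : 2 * k * C.index = 2 * k * (Fintype.card F * (Fintype.card F - 1)) := by
      calc 2 * k * C.index = k * C.index * 2 := by ring
        _ = Fintype.card F * ((Fintype.card F - 1) * (2 * k)) := h1
        _ = _ := by ring
    exact Nat.eq_of_mul_eq_mul_left hk0 h4
  have hri : ¬ r ∣ C.index := by
    rw [hidx, Nat.Prime.dvd_mul hr]
    rintro (h | h)
    · have h2 := Nat.dvd_sub (hrx.trans hx) h
      rw [Nat.add_sub_cancel_left] at h2
      exact hr.one_lt.ne' (Nat.dvd_one.1 h2)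
    · have h2 := Nat.dvd_sub (hrx.trans hx) h
      have h3 : Fintype.card F + 1 - (Fintype.card F - 1) = 2 := by omega
      rw [h3] at h2
      exact hr2 ((Nat.prime_dvd_prime_iff_eq hr Nat.prime_two).1 h2)
  obtain ⟨R⟩ : Nonempty (Sylow r C) := inferInstance
  have hRi : ¬ r ∣ ((R : Subgroup C).map C.subtype).index := by
    rw [index_map_subtype, Nat.Prime.dvd_mul hr]
    rintro (h | h)
    · exact R.not_dvd_index' (Subgroup.index_ne_zero_of_finite) h
    · exact hri h
  have hRp : IsPGroup r ((R : Subgroup C).map C.subtype) := R.2.map _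
  let R' : Sylow r 𝔾 := hRp.toSylow hRi
  have hx'p : IsPGroup r (zpowers x') := IsPGroup.of_card (n := 1) (by rw [Nat.card_zpowers, hx'o, pow_one])
  obtain ⟨S, hS⟩ := hx'p.exists_le_sylow
  obtain ⟨c, hc⟩ := MulAction.exists_smul_eq 𝔾 R' S
  refine ⟨c, ?_⟩
  have h2 : c⁻¹ * x' * c ∈ C := by
    have h3 : x' ∈ (S : Subgroup 𝔾) := hS (mem_zpowers x')
    rw [← hc, Sylow.coe_subgroup_smul, Subgroup.mem_pointwise_smul_iff_inv_smul_mem, ← map_inv,
      MulAut.smul_def, MulAut.conj_apply, inv_inv] at h3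
    obtain ⟨z, -, hz⟩ := h3
    rw [← hz]
    exact z.2
  have h3 : c⁻¹ * x' * c ≠ 1 := by
    intro h
    have h4 : x' = c * (c⁻¹ * x' * c) * c⁻¹ := by group
    rw [h] at h4
    have h5 : x' = 1 := by rw [h4]; group
    rw [h5, orderOf_one] at hx'o
    exact hr.one_lt.ne hx'o
  have h4 : c⁻¹ * x * c ∈ H := by
    by_contra h
    refine h3 (hTI _ h _ h2 ?_)
    have h5 : (c⁻¹ * x * c)⁻¹ * (c⁻¹ * x' * c) * (c⁻¹ * x * c) = c⁻¹ * (x⁻¹ * x' * x) * c := by group
    have h6 : x⁻¹ * x' * x = x' := by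
      rw [mul_assoc, inv_mul_eq_iff_eq_mul, hx', ← pow_succ, ← pow_succ']
    rw [h5, h6]
    exact h2
  -- index two
  have h5 : (c⁻¹ * x * c) ^ 2 ∈ C := by
    have h6 := Subgroup.sq_mem_of_index_two (H := C.subgroupOf H) hi ⟨c⁻¹ * x * c, h4⟩
    exact h6
  have h6 : orderOf (c⁻¹ * x * c) = orderOf x := by
    have := orderOf_injective (MulAut.conj c⁻¹).toMonoidHom (MulAut.conj c⁻¹).injective x
    simpa using this
  obtain ⟨j, hj⟩ := hodd
  have h7 : c⁻¹ * x * c = ((c⁻¹ * x * c) ^ 2) ^ (j + 1) := by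
    rw [← pow_mul]
    have h8 : 2 * (j + 1) = orderOf (c⁻¹ * x * c) + 1 := by rw [h6, hj]; ring
    rw [h8, pow_succ, pow_orderOf_eq_one, one_mul]
  rw [h7]
  exact pow_mem h5 _

/-- the order of the torus and of its normalizer -/
theorem torus_data (hoF : Odd (Fintype.card F)) : ∃ (k : ℕ) (C H : Subgroup 𝔾), Fintype.card F + 1 = 2 * k ∧ C ≤ H ∧
    C.relIndex H = 2 ∧ IsCyclic C ∧ Nat.card C = k ∧ Nat.card H = Fintype.card F + 1 ∧
    ∀ g, g ∉ H → ∀ x ∈ C, g⁻¹ * x * g ∈ C → x = 1 := by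
  obtain ⟨C, H, hCH, hi, hcyc, hcard, -, hTI⟩ := exists_psl_torus F
  have h1 : Nat.gcd 2 (Fintype.card F - 1) = 2 := by
    apply Nat.gcd_eq_left
    rw [Nat.odd_iff] at hoF
    omega
  rw [h1] at hcard
  rw [Nat.odd_iff] at hoF
  refine ⟨(Fintype.card F + 1) / 2, C, H, by omega, hCH, hi, hcyc, hcard, ?_, hTI⟩
  have h3 : Nat.card C * C.relIndex H = Nat.card H := by
    rw [← Nat.card_congr (Subgroup.subgroupOfEquivOfLe hCH).toEquiv]
    exact Subgroup.card_mul_index _
  rw [hi, hcard] at h3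
  omega

/-- **The counting lemma.** -/
theorem counting (hs : s ≠ 2) (hq : Fintype.card F = s ^ f) (h3 : 3 < Fintype.card F)
    {L : Type u} [Group L] (e : L ≃* 𝔾) {w : ℕ} (hw : w.Prime) (hwu : ¬ w ∣ s ^ f * (s ^ f + 1)) {V : Type v}
    [AddCommGroup V] (hV : ∀ v : V, w • v = 0) [DistribMulAction L V] {x y : L}
    (hx : orderOf x ∣ s ^ f + 1) (hx2 : ¬ 2 ∣ orderOf x) (hx1 : x ≠ 1) (hy : orderOf y = s)
    (hfx : ∀ v : V, x • v = v → v = 0) (hfy : ∀ v : V, y • v = v → v = 0) (v : V) : v = 0 := by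
  classical
  have hp : s.Prime := Fact.out
  have hf : f ≠ 0 := by
    rintro rfl
    rw [pow_zero] at hq
    omega
  haveI : CharP F s := by
    obtain ⟨r, hr⟩ := CharP.exists F
    obtain ⟨n, hrp, hn⟩ := FiniteField.card F r
    haveI : Fact r.Prime := ⟨hrp⟩
    have h4 : r ∣ s ^ f := by
      rw [← hq, hn]
      exact dvd_pow_self r n.pos.ne'
    have h5 := (Nat.prime_dvd_prime_iff_eq hrp hp).1 (hrp.dvd_of_dvd_pow h4)
    rw [← h5]
    exact hr
  have hoF : Odd (Fintype.card F) := by rw [hq]; exact (hp.odd_of_ne_two hs).pow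
  haveI : Fintype 𝔾 := Fintype.ofFinite _
  haveI : Fintype (Sylow s 𝔾) := Fintype.ofFinite _
  obtain ⟨k, C, H, hk, hCH, hi, hcyc, hC, hH, hTI⟩ := torus_data (F := F) hoF
  have h1 := PSL2Basic.card_PSL2_odd (F := F) hoF
  -- vanishing of the sums
  have hfix : ∀ (K : Subgroup 𝔾) (z : V), (∀ g ∈ K, e.symm g • z = z) → ∀ t : L, (∀ v : V, t • v = v → v = 0) →
      ∀ c : 𝔾, c⁻¹ * e t * c ∈ K → z = 0 := by
    intro K z hz t ht c hc
    have h4 := hz _ hc
    rw [map_mul, map_mul, map_inv, e.symm_apply_apply, mul_smul, mul_smul, inv_smul_eq_iff] at h4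
    have h5 := ht _ h4
    exact (smul_eq_zero_iff_eq _).1 h5
  have hinv : ∀ (K : Subgroup 𝔾) [DecidablePred fun g : 𝔾 => g ∈ K], ∀ g ∈ K,
      e.symm g • (∑ h ∈ Finset.univ.filter (fun h => h ∈ K), e.symm h • v) =
        ∑ h ∈ Finset.univ.filter (fun h => h ∈ K), e.symm h • v := by
    intro K _ g hg
    rw [Finset.smul_sum]
    refine Finset.sum_bij' (fun h _ => g * h) (fun h _ => g⁻¹ * h) ?_ ?_ ?_ ?_ ?_
    · intro h hh
      rw [Finset.mem_filter] at hh ⊢
      exact ⟨Finset.mem_univ _, mul_mem hg hh.2⟩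
    · intro h hh
      rw [Finset.mem_filter] at hh ⊢
      exact ⟨Finset.mem_univ _, mul_mem (inv_mem hg) hh.2⟩
    · intro h _
      exact inv_mul_cancel_left _ _
    · intro h _
      exact mul_inv_cancel_left _ _
    · intro h _
      rw [map_mul, mul_smul]
  -- conjugates of `y` and `x`
  have hyP : ∀ P : Sylow s 𝔾, ∃ c : 𝔾, c⁻¹ * e y * c ∈ (P : Subgroup 𝔾) := by
    intro P
    have h4 : IsPGroup s (zpowers (e y)) := by
      refine IsPGroup.of_card (n := 1) ?_
      rw [Nat.card_zpowers, MulEquiv.orderOf_eq, hy, pow_one]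
    obtain ⟨S, hS⟩ := h4.exists_le_sylow
    obtain ⟨c, hc⟩ := MulAction.exists_smul_eq 𝔾 P S
    refine ⟨c, ?_⟩
    have h3 : e y ∈ (S : Subgroup 𝔾) := hS (mem_zpowers _)
    rw [← hc, Sylow.coe_subgroup_smul, Subgroup.mem_pointwise_smul_iff_inv_smul_mem, ← map_inv,
      MulAut.smul_def, MulAut.conj_apply, inv_inv] at h3
    exact h3
  have hxC : ∃ c : 𝔾, c⁻¹ * e x * c ∈ C := by
    refine mem_torus hs hk hCH hi hcyc hC hTI (x := e x) ?_ ?_ ?_
    · intro h
      exact hx1 ((MulEquiv.map_eq_one_iff e).1 h)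
    · rw [MulEquiv.orderOf_eq, hq]
      exact hx
    · rw [MulEquiv.orderOf_eq, ← Nat.not_even_iff_odd, even_iff_two_dvd]
      exact hx2
  obtain ⟨P₀⟩ : Nonempty (Sylow s 𝔾) := inferInstance
  have hmain : (Fintype.card F * (Fintype.card F + 1) * (Fintype.card F + 1)) • ((fun g : 𝔾 => e.symm g • v) 1) = 0 := by
    refine main (s := s) (k := k) (C := C) (H := H) (A := V) (φ := fun g : 𝔾 => e.symm g • v) ?_ hk ?_ (card_sylow hs) ?_ (number_sylow hs h3)
      (cent_pgroup hs) hC hH hTI ?_ ?_ ?_ ?_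
    · omega
    · obtain ⟨r, hr⟩ : ∃ r, Fintype.card F = r + 1 := ⟨Fintype.card F - 1, by omega⟩
      rw [mul_comm, h1, hr, Nat.add_sub_cancel]
      have : (r + 1) ^ 2 - 1 = r * (r + 1 + 1) := by
        have : (r + 1) ^ 2 = r * (r + 1 + 1) + 1 := by ring
        rw [this, Nat.add_sub_cancel]
      rw [this]
      ring
    · exact fun P Q x => PSL2ElemOrder.sylow_eq_of_mem s P Q x
    · have h4 : ∑ g : 𝔾, e.symm g • v = ∑ g ∈ Finset.univ.filter (fun g : 𝔾 => g ∈ (⊤ : Subgroup 𝔾)), e.symm g • v := by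
        rw [Finset.filter_true_of_mem (fun g _ => mem_top g)]
      show ∑ g : 𝔾, e.symm g • v = 0
      rw [h4]
      exact hfix ⊤ _ (hinv ⊤) y hfy 1 (mem_top _)
    · intro P
      obtain ⟨c, hc⟩ := hyP P
      exact hfix _ _ (hinv _) y hfy c (le_normalizer hc)
    · intro P
      obtain ⟨c, hc⟩ := hyP P
      exact hfix _ _ (hinv _) y hfy c hc
    · intro c
      obtain ⟨d, hd⟩ := hxC
      have h4 : ∀ g : 𝔾, c⁻¹ * g * c ∈ C ↔ g ∈ C.map (MulAut.conj c).toMonoidHom := by
        intro g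
        constructor
        · intro h
          refine ⟨_, h, ?_⟩
          show c * (c⁻¹ * g * c) * c⁻¹ = g
          group
        · rintro ⟨z, hz, rfl⟩
          show c⁻¹ * (c * z * c⁻¹) * c ∈ C
          have : c⁻¹ * (c * z * c⁻¹) * c = z := by group
          rw [this]
          exact hz
      rw [Finset.filter_congr (fun g _ => h4 g)]
      refine hfix _ _ (hinv _) x hfx (d * c⁻¹) ?_
      rw [← h4]
      have : c⁻¹ * ((d * c⁻¹)⁻¹ * e x * (d * c⁻¹)) * c = d⁻¹ * e x * d := by group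
      rw [this]
      exact hd
  have h4 : (Fintype.card F * (Fintype.card F + 1) * (Fintype.card F + 1)) • v = 0 := by
    have h5 : (fun g : 𝔾 => e.symm g • v) 1 = v := by
      show e.symm 1 • v = v
      rw [map_one, one_smul]
    rwa [h5] at hmain
  have h5 : addOrderOf v ∣ w := addOrderOf_dvd_of_nsmul_eq_zero (hV v)
  have h6 : addOrderOf v ∣ Fintype.card F * (Fintype.card F + 1) * (Fintype.card F + 1) :=
    addOrderOf_dvd_of_nsmul_eq_zero h4
  rw [← hq] at hwu
  have h7 : Nat.Coprime w (Fintype.card F * (Fintype.card F + 1) * (Fintype.card F + 1)) := by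
    refine Nat.Coprime.mul_right ((Nat.Prime.coprime_iff_not_dvd hw).2 hwu) ((Nat.Prime.coprime_iff_not_dvd hw).2 ?_)
    intro h
    exact hwu (h.mul_left _)
  have h8 := Nat.dvd_gcd h5 h6
  rw [Nat.Coprime] at h7
  rw [h7, Nat.dvd_one] at h8
  exact AddMonoid.addOrderOf_eq_one_iff.1 h8

end Cfsg.Agent.H299.PslCount
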