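import Cfsg.Agent.H389.R.Def
import Cfsg.Agent.H299.S3530.Psl

/-!
# The counting lemma for S3530 (task 2390, helper299)
-/

set_option autoImplicit false

namespace Cfsg.Agent.H389.RSq

open Subgroup
open Cfsg.Agent.H389.JSq (Has)

universe u v

variable {s f : ℕ} {L : Type u} [Group L] [Finite L]

theorem IsL2.counting (h : IsL2 s f L) {w : ℕ} (hw : w.Prime) (hwu : ¬ w ∣ s ^ f * (s ^ f + 1)) {V : Type v}
    [AddCommGroup V] [Nontrivial V] (hV : ∀ v : V, w • v = 0) [DistribMulAction L V] {x y : L}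
    (hx : orderOf x ∣ s ^ f + 1) (hx2 : ¬ 2 ∣ orderOf x) (hx1 : x ≠ 1) (hy : orderOf y = s) (hs : s ≠ 2)
    (hfx : ∀ v : V, x • v = v → v = 0) (hfy : ∀ v : V, y • v = v → v = 0) : False := by
  obtain ⟨hsp, F, iF, iFt, hF, ⟨e⟩⟩ := h.psl
  haveI : Fact s.Prime := ⟨hsp⟩
  have h3 : 3 < Fintype.card F := by
    rw [hF]
    rcases h.type with h1 | h1
    · exact absurd h1.1 hs
    · omega
  obtain ⟨v, hv⟩ := exists_ne (0 : V)
  exact hv (Cfsg.Agent.H299.PslCount.counting hs hF h3 e hw hwu hV hx hx2 hx1 hy hfx hfy v)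

end Cfsg.Agent.H389.RSq
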